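import Cfsg.Agent.PLocal.PConstrained
import Cfsg.Agent.Solvable.CoprimeAct
import Cfsg.Agent.Fusion.SolvableRealized
import Cfsg.Agent.Kinf.PairCyclicReduce

/-!
`{p, q}`-subgroups of full `q`-part containing a Sylow `p`-subgroup in `p`-solvable groups.
-/

set_option autoImplicit false
set_option maxHeartbeats 1000000

namespace CfsgLib.AutDiv

open Subgroup

universe u

variable {p q : ℕ} [Fact p.Prime] [Fact q.Prime]

/-- The property of the conclusion. -/
def HasPair (p q : ℕ) {X : Type u} [Group X] (T : Subgroup X) : Prop :=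
  ∃ Γ : Subgroup X, T ≤ Γ ∧ ¬ q ∣ Γ.index ∧
    ∀ r, r.Prime → r ∣ Nat.card Γ → r = p ∨ r = q

theorem hasPair_of_quotient {X : Type u} [Group X] [Finite X] (N : Subgroup X) [N.Normal]
    (hN : ∀ r, r.Prime → r ∣ Nat.card N → r = p ∨ r = q) (T : Subgroup X)
    (h : HasPair p q (T.map (QuotientGroup.mk' N))) : HasPair p q T := by
  obtain ⟨Γ, hT, hq, hr⟩ := h
  have hs := QuotientGroup.mk'_surjective N
  refine ⟨Γ.comap (QuotientGroup.mk' N), map_le_iff_le_comap.1 hT, ?_, fun r hr' hd => ?_⟩
  · rwa [index_comap_of_surjective Γ hs]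
  · have e : Nat.card (Γ.comap (QuotientGroup.mk' N)) = Nat.card N * Nat.card Γ := by
      have h1 := (Γ.comap (QuotientGroup.mk' N)).card_mul_index
      rw [index_comap_of_surjective Γ hs, card_eq_card_quotient_mul_card_subgroup N,
        ← Γ.card_mul_index] at h1
      refine Nat.eq_of_mul_eq_mul_right (Nat.pos_of_ne_zero (index_ne_zero_of_finite (H := Γ))) ?_
      rw [h1]; ring
    rw [e] at hd
    rcases (Nat.Prime.dvd_mul hr').1 hd with h | h
    · exact hN r hr' h
    · exact hr r hr' h

theorem exists_pair (n : ℕ) : ∀ (X : Type u) [Group X] [Finite X], Nat.card X ≤ n →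
    Cfsg.IsPSolvable p X → ∀ T : Subgroup X, IsPGroup p T → ¬ p ∣ T.index → HasPair p q T := by
  induction n using Nat.strong_induction_on with
  | _ n ih =>
  intro X _ _ hn hs T hTp hTi
  have hp := (Fact.out : p.Prime)
  have hq := (Fact.out : q.Prime)
  rcases subsingleton_or_nontrivial X with hX | hX
  · refine ⟨⊤, le_top, by simp [hq.one_lt.ne'], fun r hr hd => ?_⟩
    rw [Nat.card_eq_one_iff_unique.2 ⟨inferInstance, inferInstance⟩, Nat.dvd_one] at hd
    exact absurd hd hr.ne_one
  -- recursion on a proper quotient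
  have hrec : ∀ (N : Subgroup X) [N.Normal], N ≠ ⊥ → HasPair p q (T.map (QuotientGroup.mk' N)) := by
    intro N _ hN
    have hlt : Nat.card (X ⧸ N) < n := by
      refine lt_of_lt_of_le ?_ hn
      rw [card_eq_card_quotient_mul_card_subgroup N]
      exact lt_mul_of_one_lt_right Nat.card_pos (one_lt_card_iff_ne_bot N |>.2 hN)
    exact ih _ hlt (X ⧸ N) le_rfl
      (PConstrained.isPSolvable_map _ (QuotientGroup.mk'_surjective N) hs) _ (hTp.map _)
      fun h => hTi (h.trans (index_map_dvd _ (QuotientGroup.mk'_surjective N)))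
  rcases PConstrained.exists_core_ne_bot hs with hN | hN
  · haveI := Solvable.pCore_normal (G := X) p
    refine hasPair_of_quotient (Cfsg.pCore p X) (fun r hr hd => ?_) T (hrec _ hN)
    obtain ⟨k, hk⟩ := (Solvable.isPGroup_pCore (G := X) p).exists_card_eq
    exact Or.inl ((Nat.prime_dvd_prime_iff_eq hr hp).1 (hr.dvd_of_dvd_pow (hk ▸ hd)))
  haveI hNn := Solvable.pPrimeCore_normal (G := X) p
  have hNc := Solvable.coprime_card_pPrimeCore (G := X) p
  set N := Cfsg.pPrimeCore p X
  by_cases hqN : q ∣ Nat.card N
  · -- normalize a Sylow `q`-subgroup of the core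
    have hcop : (Nat.card T).Coprime (Nat.card N) := by
      obtain ⟨k, hk⟩ := hTp.exists_card_eq
      exact hk ▸ (hNc.pow_right k).symm
    obtain ⟨Q, hQ⟩ := CoprimeAct.exists_invariant_sylow (A := T) (K := N)
      (normalizer_eq_top N ▸ le_top) hcop
      (Or.inl (by haveI := hTp.isNilpotent; infer_instance)) q
    set Q0 := (Q : Subgroup N).map N.subtype
    set M := normalizer (Q0 : Set X)
    have hQ0p : IsPGroup q Q0 := Q.2.map _
    have hQ0 : Q0 ≠ ⊥ := fun h => by
      have h1 := Q.not_dvd_index
      rw [(map_eq_bot_iff_of_injective _ N.subtype_injective).1 h, index_bot] at h1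
      exact h1 hqN
    by_cases hM : M = ⊤
    · haveI : Q0.Normal := normalizer_eq_top_iff.1 hM
      refine hasPair_of_quotient Q0 (fun r hr hd => ?_) T (hrec _ hQ0)
      obtain ⟨k, hk⟩ := hQ0p.exists_card_eq
      exact Or.inr ((Nat.prime_dvd_prime_iff_eq hr hq).1 (hr.dvd_of_dvd_pow (hk ▸ hd)))
    have hlt : Nat.card M < n := by
      refine lt_of_lt_of_le (lt_of_le_of_ne (Nat.card_le_card_of_injective _ M.subtype_injective) ?_) hn
      exact fun h => hM (eq_top_of_card_eq M h)
    have hMi : ¬ q ∣ M.index := by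
      have hNM : M ⊔ N = ⊤ := Sylow.normalizer_sup_eq_top Q
      have h2 : N.relIndex M = N.index := by rw [← relIndex_top_right, ← hNM, relIndex_sup_right]
      have h3 : M.index = M.relIndex N := by
        have e1 := M.card_mul_index
        have e2 := N.card_mul_index
        have a1 := relIndex_mul_relIndex (⊥ : Subgroup X) (M ⊓ N) N bot_le inf_le_right
        have a2 := relIndex_mul_relIndex (⊥ : Subgroup X) (N ⊓ M) M bot_le inf_le_right
        simp only [relIndex_bot_left, inf_relIndex_right] at a1 a2
        rw [inf_comm M N] at a1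
        rw [h2] at a2
        refine Nat.eq_of_mul_eq_mul_left (Nat.card_pos (α := M)) ?_
        calc Nat.card M * M.index = Nat.card N * N.index := e1.trans e2.symm
          _ = Nat.card M * M.relIndex N := by rw [← a1, ← a2]; ring
      rw [h3]
      have hle : Q0.subgroupOf N ≤ M.subgroupOf N := comap_mono le_normalizer
      rw [show Q0.subgroupOf N = (Q : Subgroup N) from
        comap_map_eq_self_of_injective N.subtype_injective _] at hle
      exact fun h => Q.not_dvd_index (h.trans (index_dvd_of_le hle))
    have hTM : T ≤ M := hQ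
    obtain ⟨Γ, hT, hΓq, hΓ⟩ := ih _ hlt M le_rfl
      (PConstrained.isPSolvable_comap M.subtype M.subtype_injective hs) (T.subgroupOf M)
      hTp.comap_subtype fun h => hTi (h.trans (relIndex_dvd_index_of_le hTM))
    refine ⟨Γ.map M.subtype, ?_, ?_, ?_⟩
    · rw [← map_subgroupOf_eq_of_le hTM]; exact map_mono hT
    · rw [index_map_subtype]
      exact fun h => (hq.dvd_mul.1 h).elim hΓq hMi
    · rwa [card_map_of_injective M.subtype_injective]
  · -- split off the core
    obtain ⟨Γb, hTb, hqb, hrb⟩ := hrec N hN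
    have hπ := QuotientGroup.mk'_surjective N
    set G1 := Γb.comap (QuotientGroup.mk' N)
    have hTG : T ≤ G1 := map_le_iff_le_comap.1 hTb
    have hNG : N ≤ G1 := by
      have := (QuotientGroup.mk' N).ker_le_comap Γb
      rwa [QuotientGroup.ker_mk'] at this
    have hidx : (N.subgroupOf G1).index = Nat.card Γb := by
      show N.relIndex G1 = _
      have := N.relIndex_mul_index hNG
      rw [show G1.index = Γb.index from index_comap_of_surjective Γb hπ,
        show N.index = Nat.card (X ⧸ N) from index_eq_card N, ← Γb.card_mul_index] at this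
      exact Nat.eq_of_mul_eq_mul_right (Nat.pos_of_ne_zero (index_ne_zero_of_finite (H := Γb))) this
    have hNcard : Nat.card (N.subgroupOf G1) = Nat.card N :=
      Nat.card_congr (subgroupOfEquivOfLe hNG).toEquiv
    have hcop : (Nat.card (N.subgroupOf G1)).Coprime (N.subgroupOf G1).index := by
      rw [hNcard, hidx]
      refine Nat.coprime_of_dvd fun r hr h1 h2 => ?_
      rcases hrb r hr h2 with rfl | rfl
      · exact hp.one_lt.ne' (Nat.eq_one_of_dvd_coprimes hNc h1 dvd_rfl)
      · exact hqN h1
    obtain ⟨C, hC⟩ := exists_right_complement'_of_coprime hcop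
    have hCi : C.index = Nat.card N := by rw [hC.index_eq_card, hNcard]
    obtain ⟨S⟩ : Nonempty (Sylow p C) := inferInstance
    have hSi : ¬ p ∣ ((S : Subgroup C).map C.subtype).index := by
      rw [index_map_subtype, hCi]
      exact fun h => (hp.dvd_mul.1 h).elim S.not_dvd_index
        fun h => hp.one_lt.ne' (Nat.eq_one_of_dvd_coprimes hNc h dvd_rfl)
    obtain ⟨S', hS'⟩ := (hTp.comap_subtype (K := G1)).exists_le_sylow
    obtain ⟨g, hg⟩ := MulAction.exists_smul_eq G1 ((S.isPGroup'.map C.subtype).toSylow hSi) S'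
    refine ⟨(C.map (MulAut.conj g).toMonoidHom).map G1.subtype, ?_, ?_, ?_⟩
    · rw [← map_subgroupOf_eq_of_le hTG]
      refine map_mono fun x hx => ?_
      have hx' := hS' hx
      rw [← hg, Sylow.coe_subgroup_smul] at hx'
      obtain ⟨y, hy, rfl⟩ := hx'
      rw [IsPGroup.toSylow_coe] at hy
      exact mem_map_of_mem _ (map_subtype_le _ hy)
    · rw [index_map_subtype, show (C.map (MulAut.conj g).toMonoidHom).index = C.index from
        index_map_equiv C (MulAut.conj g), hCi, index_comap_of_surjective Γb hπ]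
      exact fun h => (hq.dvd_mul.1 h).elim hqN hqb
    · rw [card_map_of_injective G1.subtype_injective,
        card_map_of_injective (MulAut.conj g).injective]
      have hCc : Nat.card C = Nat.card Γb := by rw [← hidx, hC.symm.index_eq_card]
      rwa [hCc]

end CfsgLib.AutDiv
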