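import Cfsg.Agent.ZJ.ThompsonTwo
import Cfsg.Agent.Fusion.InnerZJ
import Cfsg.Agent.Transfer.Basic
import Cfsg.Agent.Transfer.PResidual

/-!
Without a normal `p`-complement some characteristic subgroup of a Sylow `p`-subgroup is moved
nontrivially by a `p'`-element.
-/

set_option autoImplicit false
set_option maxHeartbeats 1000000

namespace CfsgLib.AutDiv

open Subgroup

universe u

variable {p : ℕ} [Fact p.Prime]

theorem mem_normalizer_of_conj {X : Type u} [Group X] [Finite X] {K : Subgroup X} {g : X}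
    (h : ∀ x ∈ K, g * x * g⁻¹ ∈ K) : g ∈ normalizer (K : Set X) := by
  rw [mem_normalizer_iff_map_conj_eq]
  refine eq_of_le_of_card_ge ?_ (card_map_of_injective (MulAut.conj g).injective).ge
  rintro _ ⟨x, hx, rfl⟩
  exact h x hx

/-- `K` is characteristic in `T`, inside the ambient group. -/
def CharIn {X : Type u} [Group X] (T K : Subgroup X) : Prop :=
  K ≤ T ∧ ∀ φ : ↥T ≃* ↥T, ∀ x : ↥T, (x : X) ∈ K → ((φ x : ↥T) : X) ∈ K

theorem CharIn.le_normalizer {X : Type u} [Group X] [Finite X] {T K : Subgroup X} (h : CharIn T K) :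
    normalizer (T : Set X) ≤ normalizer (K : Set X) := by
  intro g hg
  refine mem_normalizer_of_conj ?_
  intro x hx
  have hh := h.2
    (MulEquiv.ofBijective
      (((MulAut.conj g).toMonoidHom.comp T.subtype).codRestrict T fun t =>
        (mem_normalizer_iff.1 hg _).1 t.2)
      (Finite.injective_iff_bijective.1 fun a b hab => by
        have := congrArg Subtype.val hab
        exact Subtype.ext ((MulAut.conj g).injective this)))
    ⟨x, h.1 hx⟩ hx
  exact hh

theorem thompsonA_inf_centralizer_le {X : Type u} [Group X] [Finite X] (T : Subgroup X) :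
    T ⊓ centralizer ((Cfsg.thompsonSubgroupAOf T : Subgroup X) : Set X) ≤
      Cfsg.thompsonSubgroupAOf T := by
  classical
  intro x hx
  obtain ⟨A, hA, hmax⟩ := Set.Finite.exists_maximalFor (fun A : Subgroup T => Nat.card A)
    {A : Subgroup T | IsMulCommutative A} (Set.toFinite _) ⟨⊥, (inferInstance : IsMulCommutative _)⟩
  have hmem : A ∈ Cfsg.maxAbelianSubgroups T := ⟨hA, fun B hB =>
    (le_total (Nat.card B) (Nat.card A)).elim id (fun h => hmax hB h)⟩
  have hcomm : ∀ a ∈ A, a * ⟨x, hx.1⟩ = (⟨x, hx.1⟩ : T) * a := fun a ha =>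
    Subtype.ext (mem_centralizer_iff.1 hx.2 _
      (mem_map_of_mem _ ((le_sSup hmem : A ≤ Cfsg.thompsonSubgroupA T) ha)))
  haveI : IsMulCommutative A := hA
  haveI hAc : IsMulCommutative (closure (insert (⟨x, hx.1⟩ : T) (A : Set T))) :=
    isMulCommutative_closure (by
      rintro a (rfl | ha) b (rfl | hb)
      · rfl
      · exact (hcomm b hb).symm
      · exact hcomm a ha
      · exact congrArg Subtype.val (mul_comm' (⟨a, ha⟩ : A) ⟨b, hb⟩))
  have hle : A ≤ closure (insert (⟨x, hx.1⟩ : T) (A : Set T)) :=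
    fun a ha => subset_closure (Set.mem_insert_of_mem _ ha)
  have heq := eq_of_le_of_card_ge hle (hmem.2 _ hAc)
  have hxA : (⟨x, hx.1⟩ : T) ∈ A := heq ▸ subset_closure (Set.mem_insert _ _)
  exact ⟨⟨x, hx.1⟩, le_sSup hmem hxA, rfl⟩

theorem three_dvd_of_involves {X : Type u} [Group X] [Finite X]
    (h : Cfsg.Involves (Equiv.Perm (Fin 4)) X) : 3 ∣ Nat.card X := by
  obtain ⟨K, R, hn, ⟨e⟩⟩ := h
  have h1 : Nat.card (↥K ⧸ R.subgroupOf K) = 24 := by
    rw [Nat.card_congr e.toEquiv, Nat.card_perm, Nat.card_fin]; rfl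
  refine Dvd.dvd.trans ?_ ((Subgroup.card_quotient_dvd_card (R.subgroupOf K)).trans
    (Subgroup.card_subgroup_dvd_card K))
  rw [h1]; norm_num

theorem exists_char_moved (n : ℕ) : ∀ (X : Type u) [Group X] [Finite X], Nat.card X ≤ n →
    (p ≠ 2 ∨ ¬ 3 ∣ Nat.card X) → ¬ Cfsg.HasNormalPComplement p X → ∀ T : Sylow p X,
    ∃ K : Subgroup X, CharIn (T : Subgroup X) K ∧ ∃ y ∈ normalizer (K : Set X),
      (orderOf y).Coprime p ∧ y ∉ centralizer (K : Set X) := by
  induction n using Nat.strong_induction_on with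
  | _ n ih =>
  intro X _ _ hn h3 hX T
  set J := Cfsg.thompsonSubgroupAOf (T : Subgroup X) with hJdef
  have hJT : J ≤ (T : Subgroup X) := map_subtype_le _
  have hJchar : CharIn (T : Subgroup X) J := ⟨hJT, fun φ x hx => by
    obtain ⟨x', hx', e⟩ := hx
    obtain rfl : x' = x := Subtype.ext e
    refine mem_map_of_mem _ ?_
    rw [← Fusion.thompsonSubgroupA_map φ]
    exact mem_map_of_mem _ hx'⟩
  by_cases hN : Cfsg.HasNormalPComplement p (normalizer (J : Set X))
  swap
  · refine ⟨J, hJchar, ?_⟩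
    by_contra hcon
    push Not at hcon
    apply hN
    set N := normalizer (J : Set X)
    set C := centralizer (J : Set X)
    have hCN : C ≤ N := centralizer_le_normalizer _
    have hCc : Cfsg.HasNormalPComplement p C := by
      obtain ⟨Q⟩ : Nonempty (Sylow p C) := inferInstance
      refine TransferBasic.hasNormalPComplement_of_le_centralizer Q fun g _ => ?_
      have hTN : (T : Subgroup X) ≤ N := le_normalizer.trans hJchar.le_normalizer
      have hQN : (Q : Subgroup C).map C.subtype ≤ N := (map_subtype_le _).trans hCN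
      obtain ⟨S', hS'⟩ := ((Q.2.map C.subtype).comap_subtype (K := N)).exists_le_sylow
      obtain ⟨k, hk⟩ := MulAction.exists_smul_eq N (T.subtype hTN) S'
      refine mem_centralizer_iff.2 fun a ha => Subtype.ext ?_
      have haX : (a : X) ∈ (Q : Subgroup C).map C.subtype := mem_map_of_mem _ ha
      have h1 : (⟨(a : X), hQN haX⟩ : N) ∈ (S' : Subgroup N) := hS' haX
      rw [← hk, Sylow.coe_subgroup_smul] at h1
      obtain ⟨t, ht, hte⟩ := h1
      have hte' : (k : X) * (t : X) * (k : X)⁻¹ = (a : X) := congrArg Subtype.val hte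
      have htT : (t : X) ∈ (T : Subgroup X) := ht
      have hkC : (t : X) ∈ centralizer (J : Set X) := by
        refine mem_centralizer_iff.2 fun j hj => ?_
        have hj' := mem_centralizer_iff.1 a.2 _ ((mem_normalizer_iff.1 k.2 j).1 hj)
        rw [← hte'] at hj'
        simpa [mul_assoc] using congrArg (fun w => (k : X)⁻¹ * w * (k : X)) hj'
      have haJ : (a : X) ∈ J := by
        rw [← hte']
        exact (mem_normalizer_iff.1 k.2 _).1 (thompsonA_inf_centralizer_le _ ⟨htT, hkC⟩)
      exact mem_centralizer_iff.1 g.2 _ haJ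
    haveI : (C.subgroupOf N).Normal := inferInstance
    rw [PResidual.hasNormalPComplement_iff] at hCc ⊢
    refine hCc.coprime_dvd_left ?_
    rw [← card_map_of_injective (K := Cfsg.pResidual p N) N.subtype_injective,
      ← card_map_of_injective (K := Cfsg.pResidual p C) C.subtype_injective]
    refine card_dvd_of_le ?_
    rw [Cfsg.pResidual, MonoidHom.map_closure, closure_le]
    rintro _ ⟨g, hg, rfl⟩
    have hg' : (orderOf (g : X)).Coprime p := by rw [orderOf_coe]; exact hg
    have hgC : (g : X) ∈ C := hcon g g.2 hg'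
    refine ⟨⟨g, hgC⟩, PResidual.mem_pResidual p ?_, rfl⟩
    rwa [orderOf_mk]
  set Z := (T : Subgroup X) ⊓ centralizer ((T : Subgroup X) : Set X)
  have h4 : p ≠ 2 ∨ ¬ Cfsg.Involves (Equiv.Perm (Fin 4)) X :=
    h3.imp id fun h hi => h (three_dvd_of_involves hi)
  have hC : ¬ Cfsg.HasNormalPComplement p (centralizer (Z : Set X)) := fun h =>
    hX (ZJ.hasNormalPComplement_thompsonA X T h4 h hN)
  set C := centralizer (Z : Set X)
  have hTC : (T : Subgroup X) ≤ C := fun t ht => mem_centralizer_iff.2 fun z hz =>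
    (mem_centralizer_iff.1 hz.2 t ht).symm
  have hZC : Z ≤ C := inf_le_left.trans hTC
  haveI hZn : (Z.subgroupOf C).Normal := ⟨fun z hz g => by
    show (g : X) * (z : X) * (g : X)⁻¹ ∈ Z
    rw [← mem_centralizer_iff.1 g.2 (z : X) hz, mul_inv_cancel_right]
    exact hz⟩
  have hT1 : (T : Subgroup X) ≠ ⊥ := fun h => hX ⟨T, ⊤, inferInstance, by
    rw [h]; exact isComplement'_top_bot⟩
  have hZ1 : Z ≠ ⊥ := by
    haveI := T.2.isNilpotent
    haveI := (nontrivial_iff_ne_bot _).2 hT1
    obtain ⟨z, hz, hz1⟩ := (bot_or_exists_ne_one _).resolve_left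
      (Group.IsNilpotent.center_ne_bot (G := ↥(T : Subgroup X)))
    exact fun h => hz1 (Subtype.ext (mem_bot.1 (h ▸ (⟨z.2, mem_centralizer_iff.2 fun t ht =>
      congrArg Subtype.val (mem_center_iff.1 hz ⟨t, ht⟩)⟩ : (z : X) ∈ Z))))
  set π := QuotientGroup.mk' (Z.subgroupOf C)
  have hπ : Function.Surjective π := QuotientGroup.mk'_surjective _
  have hlt : Nat.card (↥C ⧸ Z.subgroupOf C) < n := by
    refine lt_of_lt_of_le ?_ ((Nat.card_le_card_of_injective _ C.subtype_injective).trans hn)
    rw [card_eq_card_quotient_mul_card_subgroup (Z.subgroupOf C)]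
    refine lt_mul_of_one_lt_right Nat.card_pos ?_
    rw [Nat.card_congr (subgroupOfEquivOfLe hZC).toEquiv]
    exact (one_lt_card_iff_ne_bot Z).2 hZ1
  have hZp : IsPGroup p (Z.subgroupOf C) := (T.2.to_le inf_le_left).comap_subtype
  have hCb : ¬ Cfsg.HasNormalPComplement p (↥C ⧸ Z.subgroupOf C) := by
    intro h
    refine hC ?_
    obtain ⟨Pb, Nb, hNb, hNP⟩ := h
    obtain ⟨hc, k, hk⟩ := PResidual.card_coprime_of_isComplement' Pb hNP
    haveI := hNb
    set M := Nb.comap π
    have hZM : Z.subgroupOf C ≤ M := by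
      have := π.ker_le_comap Nb
      rwa [QuotientGroup.ker_mk'] at this
    set Zm := (Z.subgroupOf C).subgroupOf M
    have hcent : Zm ≤ center ↥M := fun z hz => mem_center_iff.2 fun g =>
      Subtype.ext (Subtype.ext (mem_centralizer_iff.1 (g : C).2 _ hz).symm)
    haveI : Zm.Normal := ⟨fun z hz g => by
      rwa [(mem_center_iff.1 (hcent hz) g), mul_inv_cancel_right]⟩
    have hZi : ¬ p ∣ Zm.index := by
      have h1 : Zm.index * M.index = (Z.subgroupOf C).index :=
        relIndex_mul_index hZM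
      rw [index_comap_of_surjective Nb hπ, index_eq_card (Z.subgroupOf C), ← Nb.card_mul_index] at h1
      rw [Nat.eq_of_mul_eq_mul_right (Nat.pos_of_ne_zero (index_ne_zero_of_finite (H := Nb))) h1]
      exact fun h => (Fact.out : p.Prime).one_lt.ne' (Nat.eq_one_of_dvd_coprimes hc h dvd_rfl)
    have hMc : Cfsg.HasNormalPComplement p ↥M := by
      refine TransferBasic.hasNormalPComplement_of_le_centralizer
        ((hZp.comap_subtype (K := M)).toSylow hZi) fun g _ => ?_
      refine mem_centralizer_iff.2 fun z hz => ?_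
      exact (mem_center_iff.1 (hcent hz) g).symm
    rw [PResidual.hasNormalPComplement_iff] at hMc
    obtain ⟨j, hj⟩ := PResidual.exists_index_pResidual (G := ↥M) (p := p)
    refine PResidual.hasNormalPComplement_of_normal
      (N := (Cfsg.pResidual p ↥M).map M.subtype) (k := j + k) ?_ ?_
    · rwa [card_map_of_injective M.subtype_injective]
    · rw [index_map_subtype, hj, index_comap_of_surjective Nb hπ, hk, pow_add]
  have h3' : p ≠ 2 ∨ ¬ 3 ∣ Nat.card (↥C ⧸ Z.subgroupOf C) := h3.imp id fun h hd =>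
    h (hd.trans ((card_quotient_dvd_card _).trans (card_subgroup_dvd_card _)))
  set Tb := (T.subtype hTC).mapSurjective hπ
  obtain ⟨Kb, ⟨hKb, hKbc⟩, y, hyN, hyo, hyC⟩ := ih _ hlt _ le_rfl h3' hCb Tb
  set K := (Kb.comap π).map C.subtype
  have hTb : (Tb : Subgroup (↥C ⧸ Z.subgroupOf C)) = ((T : Subgroup X).subgroupOf C).map π := by
    rw [Sylow.coe_mapSurjective]; rfl
  have hKT : K ≤ (T : Subgroup X) := by
    rintro _ ⟨c, hc, rfl⟩
    have hc' := hKb hc
    rw [hTb] at hc'
    obtain ⟨t, ht, hte⟩ := hc'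
    have hzm : t⁻¹ * c ∈ Z.subgroupOf C := QuotientGroup.eq.1 hte
    have := mul_mem (ht : (t : X) ∈ (T : Subgroup X)) ((inf_le_left : Z ≤ _) hzm)
    simpa [mem_subgroupOf] using this
  refine ⟨K, ⟨hKT, fun φ x hx => ?_⟩, ?_⟩
  · let ψ : ↥(T : Subgroup X) →* ↥(Tb : Subgroup (↥C ⧸ Z.subgroupOf C)) :=
      (π.comp (inclusion hTC)).codRestrict _ fun t => hTb.ge (mem_map_of_mem _ t.2)
    have hψs : Function.Surjective ψ := fun b => by
      obtain ⟨t, ht, hte⟩ := hTb.le b.2
      exact ⟨⟨t, ht⟩, Subtype.ext hte⟩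
    have hψk : ψ.ker = center ↥(T : Subgroup X) := by
      ext t
      rw [MonoidHom.mem_ker, mem_center_iff]
      constructor
      · intro h s
        have h1 : inclusion hTC t ∈ Z.subgroupOf C :=
          (QuotientGroup.eq_one_iff _).1 (congrArg Subtype.val h)
        exact Subtype.ext (mem_centralizer_iff.1 h1.2 _ s.2)
      · intro h
        refine Subtype.ext ((QuotientGroup.eq_one_iff _).2 ?_)
        exact ⟨t.2, mem_centralizer_iff.2 fun s hs => congrArg Subtype.val (h ⟨s, hs⟩)⟩
    have hle : ψ.ker ≤ (ψ.comp φ.toMonoidHom).ker := by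
      intro t ht
      rw [hψk] at ht
      rw [MonoidHom.mem_ker, MonoidHom.comp_apply, ← MonoidHom.mem_ker, hψk]
      exact mem_center_iff.2 fun s => by
        obtain ⟨s, rfl⟩ := φ.surjective s
        show φ s * φ t = φ t * φ s
        rw [← map_mul, ← map_mul, mem_center_iff.1 ht s]
    let φb := ψ.liftOfSurjective hψs ⟨ψ.comp φ.toMonoidHom, hle⟩
    have hφb : ∀ t, φb (ψ t) = ψ (φ t) := fun t =>
      ψ.liftOfRightInverse_comp_apply _ (Function.rightInverse_surjInv hψs)
        ⟨ψ.comp φ.toMonoidHom, hle⟩ t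
    have hbs : Function.Surjective φb := fun b => by
      obtain ⟨t, rfl⟩ := hψs b
      exact ⟨ψ (φ.symm t), by rw [hφb, MulEquiv.apply_symm_apply]⟩
    obtain ⟨c, hc, hcx⟩ := hx
    have h1 := hKbc (MulEquiv.ofBijective φb (Finite.surjective_iff_bijective.1 hbs)) (ψ x) (by
      show π (inclusion hTC x) ∈ Kb
      rw [show inclusion hTC x = c from Subtype.ext hcx.symm]
      exact hc)
    refine ⟨inclusion hTC (φ x), ?_, rfl⟩
    show π (inclusion hTC (φ x)) ∈ Kb
    rw [show MulEquiv.ofBijective φb _ (ψ x) = φb (ψ x) from rfl, hφb] at h1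
    exact h1
  · obtain ⟨y0, rfl⟩ := hπ y
    obtain ⟨a, b, hab, hyd⟩ : ∃ a b : ℕ, a.Coprime p ∧ orderOf y0 = p ^ b * a := by
      refine ⟨orderOf y0 / p ^ (orderOf y0).factorization p, (orderOf y0).factorization p, ?_, ?_⟩
      · exact (Nat.coprime_ordCompl Fact.out (orderOf_pos y0).ne').symm
      · exact (Nat.ordProj_mul_ordCompl_eq_self _ p).symm
    -- a power of the lift of order prime to `p` with the same image
    have hy1 : 1 < orderOf (π y0) := by
      refine lt_of_le_of_ne (orderOf_pos _) fun h => hyC ?_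
      rw [orderOf_eq_one_iff.1 h.symm]
      exact one_mem _
    obtain ⟨m, -, hm'⟩ := Nat.exists_mul_mod_eq_one_of_coprime (hyo.symm.pow_left b) hy1
    have hm : p ^ b * m ≡ 1 [MOD orderOf (π y0)] := by
      rw [Nat.ModEq, hm', Nat.mod_eq_of_lt hy1]
    set z := y0 ^ (p ^ b * m)
    have hzy : π z = π y0 := by
      rw [map_pow]
      conv_rhs => rw [← pow_one (π y0)]
      exact pow_eq_pow_iff_modEq.2 hm
    have hzo : (orderOf z).Coprime p := by
      refine hab.coprime_dvd_left (orderOf_dvd_of_pow_eq_one ?_)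
      rw [← pow_mul, show p ^ b * m * a = (p ^ b * a) * m by ring, ← hyd, pow_mul,
        pow_orderOf_eq_one, one_pow]
    refine ⟨(z : X), ?_, by rwa [orderOf_coe], fun hz => hyC ?_⟩
    · refine mem_normalizer_of_conj ?_
      rintro _ ⟨c, hc, rfl⟩
      refine ⟨z * c * z⁻¹, ?_, rfl⟩
      show π (z * c * z⁻¹) ∈ Kb
      rw [map_mul, map_mul, map_inv, hzy]
      exact (mem_normalizer_iff.1 hyN _).1 hc
    · refine mem_centralizer_iff.2 fun kb hkb => ?_
      obtain ⟨c, rfl⟩ := hπ kb
      have := mem_centralizer_iff.1 hz _ (mem_map_of_mem C.subtype (hkb : c ∈ Kb.comap π))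
      rw [← hzy, ← map_mul, ← map_mul]
      exact congrArg π (Subtype.ext this)

end CfsgLib.AutDiv
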