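import Cfsg.Agent.AutDiv.Hall
import Cfsg.Agent.AutDiv.Thompson

/-!
A prime dividing a `p`-solvable automizer divides one of a subgroup normal in a Sylow subgroup.
-/

set_option autoImplicit false
set_option maxHeartbeats 1000000

namespace CfsgLib.AutDiv

open Subgroup
open scoped commutatorElement

universe u

variable {p q : ℕ} [Fact p.Prime] [Fact q.Prime]

/-- A Sylow subgroup meets a normal subgroup in a Sylow subgroup. -/
theorem not_dvd_relIndex {X : Type u} [Group X] [Finite X] (S : Sylow p X) (C : Subgroup X)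
    [C.Normal] : ¬ p ∣ (S : Subgroup X).relIndex C := by
  obtain ⟨R, hR⟩ := (S.2.comap_subtype (K := C)).exists_le_sylow
  obtain ⟨S', hS'⟩ := (R.2.map C.subtype).exists_le_sylow
  obtain ⟨g, hg⟩ := MulAction.exists_smul_eq X S' S
  have h1 : (((R : Subgroup C).map C.subtype).map (MulAut.conj g).toMonoidHom) ≤ (S : Subgroup X) ⊓ C := by
    refine le_inf ?_ ?_
    · rw [← hg, Sylow.coe_subgroup_smul]; exact map_mono hS'
    · rintro _ ⟨_, ⟨c, -, rfl⟩, rfl⟩
      exact Normal.conj_mem inferInstance _ c.2 g
  have h2 := card_dvd_of_le h1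
  rw [card_map_of_injective (MulAut.conj g).injective, card_map_of_injective C.subtype_injective] at h2
  have h3 : Nat.card ↥((S : Subgroup X) ⊓ C) = Nat.card ((S : Subgroup X).subgroupOf C) := by
    rw [← inf_subgroupOf_right, Nat.card_congr (subgroupOfEquivOfLe inf_le_right).toEquiv]
  have heq : (S : Subgroup X).subgroupOf C = (R : Subgroup C) :=
    eq_of_le_of_card_ge hR ((Nat.le_of_dvd Nat.card_pos h2).trans h3.le)
  show ¬ p ∣ ((S : Subgroup X).subgroupOf C).index
  rw [heq]
  exact R.not_dvd_index

section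

variable {G : Type u} [Group G] [Finite G]

/-- `q` divides the automizer of `H`. -/
def AutDvd (q : ℕ) (H : Subgroup G) : Prop :=
  q ∣ (centralizer (H : Set G)).relIndex (normalizer (H : Set G))

theorem autDvd_conj {H : Subgroup G} (h : AutDvd q H) (g : G) :
    AutDvd q (H.map (MulAut.conj g).toMonoidHom) := by
  have e1 : normalizer ((H.map (MulAut.conj g).toMonoidHom : Subgroup G) : Set G) =
      (normalizer (H : Set G)).map (MulAut.conj g).toMonoidHom :=
    (map_equiv_normalizer_eq H (MulAut.conj g)).symm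
  have e2 : centralizer ((H.map (MulAut.conj g).toMonoidHom : Subgroup G) : Set G) =
      (centralizer (H : Set G)).map (MulAut.conj g).toMonoidHom := by
    ext x
    obtain ⟨x, rfl⟩ := (MulAut.conj g).surjective x
    rw [show (MulAut.conj g x ∈ (centralizer (H : Set G)).map (MulAut.conj g).toMonoidHom ↔
      x ∈ centralizer (H : Set G)) from mem_map_iff_mem (f := (MulAut.conj g).toMonoidHom)
        (MulAut.conj g).injective]
    refine ⟨fun hx => mem_centralizer_iff.2 fun y hy => (MulAut.conj g).injective ?_,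
      fun hx => mem_centralizer_iff.2 ?_⟩
    · rw [map_mul, map_mul]
      exact mem_centralizer_iff.1 hx _ (mem_map_of_mem _ hy)
    · rintro _ ⟨y, hy, rfl⟩
      show MulAut.conj g y * MulAut.conj g x = MulAut.conj g x * MulAut.conj g y
      rw [← map_mul, ← map_mul, mem_centralizer_iff.1 hx y hy]
  unfold AutDvd
  rw [e1, e2, relIndex_map_map_of_injective _ _ (MulAut.conj g).injective]
  exact h

theorem exists_normal_autDvd (hpq : p ≠ q) (h23 : p ≠ 2 ∨ q ≠ 3)
    (hsol : ∀ H : Subgroup G, IsPGroup p H → Cfsg.IsPSolvable p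
      (↥(normalizer (H : Set G)) ⧸ (centralizer (H : Set G)).subgroupOf (normalizer (H : Set G))))
    (H₀ : Subgroup G) (hH₀ : IsPGroup p H₀) (hq₀ : AutDvd q H₀) (P : Sylow p G) :
    ∃ K : Subgroup G, K ≤ (P : Subgroup G) ∧ (P : Subgroup G) ≤ normalizer (K : Set G) ∧
      AutDvd q K := by
  classical
  have hp := (Fact.out : p.Prime)
  have hqp := (Fact.out : q.Prime)
  set W : Subgroup G → ℕ := fun H => Nat.card ↥((P : Subgroup G) ⊓ normalizer (H : Set G))
  set f : Subgroup G → ℕ := fun H => W H * (Nat.card G + 1) + Nat.card H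
  obtain ⟨H, ⟨hHP, hHq⟩, hmax⟩ := Set.Finite.exists_maximalFor f
    {H : Subgroup G | H ≤ (P : Subgroup G) ∧ AutDvd q H} (Set.toFinite _) (by
      obtain ⟨S, hS⟩ := hH₀.exists_le_sylow
      obtain ⟨g, rfl⟩ := MulAction.exists_smul_eq G S P
      refine ⟨H₀.map (MulAut.conj g).toMonoidHom, ?_, autDvd_conj hq₀ g⟩
      rw [Sylow.coe_subgroup_smul]
      exact map_mono hS)
  have hcardle : ∀ K : Subgroup G, Nat.card K < Nat.card G + 1 := fun K =>
    Nat.lt_succ_of_le (Nat.card_le_card_of_injective _ K.subtype_injective)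
  have hbestW : ∀ K : Subgroup G, K ≤ (P : Subgroup G) → AutDvd q K → W K ≤ W H := by
    intro K hK hKq
    by_contra hlt
    push Not at hlt
    have h1 : f H < f K := by
      have h2 : W H * (Nat.card G + 1) + (Nat.card G + 1) ≤ W K * (Nat.card G + 1) := by
        have := Nat.mul_le_mul_right (Nat.card G + 1) (Nat.succ_le_of_lt hlt)
        rwa [Nat.succ_mul] at this
      have := hcardle H
      simp only [f]
      omega
    exact absurd (hmax ⟨hK, hKq⟩ h1.le) (not_le.2 h1)
  have hbestC : ∀ K : Subgroup G, K ≤ (P : Subgroup G) → AutDvd q K → W H ≤ W K →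
      Nat.card K ≤ Nat.card H := by
    intro K hK hKq hWK
    have e : W K = W H := le_antisymm (hbestW K hK hKq) hWK
    have h1 := hmax ⟨hK, hKq⟩
    simp only [f, e] at h1
    by_contra hlt
    push Not at hlt
    exact absurd (h1 (by omega)) (by omega)
  set T := (P : Subgroup G) ⊓ normalizer (H : Set G)
  by_cases hTP : (P : Subgroup G) ≤ normalizer (H : Set G)
  · exact ⟨H, hHP, hTP, hHq⟩
  exfalso
  set N := normalizer (H : Set G) with hNdef
  set C := centralizer (H : Set G) with hCdef
  have hCN : C ≤ N := centralizer_le_normalizer _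
  have hHT : H ≤ T := le_inf hHP le_normalizer
  have hTp : IsPGroup p T := P.2.to_le inf_le_left
  -- `T` is a Sylow subgroup of `N`
  have hTi : ¬ p ∣ (T.subgroupOf N).index := by
    obtain ⟨S, hS⟩ := (hTp.comap_subtype (K := N)).exists_le_sylow
    obtain ⟨S', hS'⟩ := (S.2.map N.subtype).exists_le_sylow
    obtain ⟨g, hg⟩ := MulAction.exists_smul_eq G S' P
    have hSle : ((S : Subgroup N).map N.subtype).map (MulAut.conj g).toMonoidHom ≤
        (P : Subgroup G) ⊓ normalizer ((H.map (MulAut.conj g).toMonoidHom : Subgroup G) : Set G) := by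
      refine le_inf ?_ ?_
      · rw [← hg, Sylow.coe_subgroup_smul]; exact map_mono hS'
      · rw [← map_equiv_normalizer_eq H (MulAut.conj g)]
        exact map_mono (map_subtype_le _)
    have hHS : H.map (MulAut.conj g).toMonoidHom ≤ (P : Subgroup G) := by
      have h1 : T.subgroupOf N ≤ S := hS
      have h2 : H ≤ (S : Subgroup N).map N.subtype := by
        exact hHT.trans ((map_subgroupOf_eq_of_le (inf_le_right : T ≤ N)).ge.trans (map_mono h1))
      exact ((map_mono h2).trans hSle).trans inf_le_left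
    have h3 := hbestW _ hHS (autDvd_conj hHq g)
    have h4 := card_dvd_of_le hSle
    rw [card_map_of_injective (MulAut.conj g).injective,
      card_map_of_injective N.subtype_injective] at h4
    have h5 : Nat.card (S : Subgroup N) ≤ Nat.card (T.subgroupOf N) := by
      rw [Nat.card_congr (subgroupOfEquivOfLe (inf_le_right : T ≤ N)).toEquiv]
      exact (Nat.le_of_dvd Nat.card_pos h4).trans h3
    have heq : T.subgroupOf N = (S : Subgroup N) := eq_of_le_of_card_ge hS h5
    rw [heq]
    exact S.not_dvd_index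
  haveI hCn : (C.subgroupOf N).Normal := inferInstance
  -- `T ⊓ C` lies in `H`
  have hDH : T ⊓ C ≤ H := by
    set D := T ⊓ C
    set H' := H ⊔ D
    have hH'T : H' ≤ T := sup_le hHT inf_le_left
    have hTH' : T ≤ normalizer (H' : Set G) := by
      intro t ht
      refine mem_normalizer_of_conj fun x hx => ?_
      have hle : H' ≤ H'.comap (MulAut.conj t).toMonoidHom := sup_le
        (fun h hh => mem_sup_left ((mem_normalizer_iff.1 ht.2 h).1 hh))
        (fun d hd => mem_sup_right (show t * d * t⁻¹ ∈ D from mem_inf.2 ⟨T.mul_mem (T.mul_mem ht hd.1) (T.inv_mem ht),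
          by
            refine mem_centralizer_iff.2 fun h hh => ?_
            have e := mem_centralizer_iff.1 hd.2 _ ((mem_normalizer_iff''.1 ht.2 h).1 hh)
            calc h * (t * d * t⁻¹) = t * ((t⁻¹ * h * t) * d) * t⁻¹ := by group
              _ = t * (d * (t⁻¹ * h * t)) * t⁻¹ := by rw [e]
              _ = t * d * t⁻¹ * h := by group⟩))
      exact hle hx
    -- a Frattini argument
    set Y := N ⊓ normalizer (D : Set G)
    have hYH' : Y ≤ normalizer (H' : Set G) := by
      intro y hy
      refine mem_normalizer_of_conj fun x hx => ?_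
      have hle : H' ≤ H'.comap (MulAut.conj y).toMonoidHom := sup_le
        (fun h hh => mem_sup_left ((mem_normalizer_iff.1 hy.1 h).1 hh))
        (fun d hd => mem_sup_right ((mem_normalizer_iff.1 hy.2 d).1 hd))
      exact hle hx
    have hYC : N ≤ C ⊔ Y := by
      have hDi : ¬ p ∣ ((T.subgroupOf N).subgroupOf (C.subgroupOf N)).index := by
        exact not_dvd_relIndex ((hTp.comap_subtype (K := N)).toSylow hTi) (C.subgroupOf N)
      set S := ((hTp.comap_subtype (K := N)).comap_subtype (K := C.subgroupOf N)).toSylow hDi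
      have htop := Sylow.normalizer_sup_eq_top S
      rw [show (S : Subgroup (C.subgroupOf N)) = (T.subgroupOf N).subgroupOf (C.subgroupOf N) from
        IsPGroup.toSylow_coe _ _] at htop
      have hDeq : (((T.subgroupOf N).subgroupOf (C.subgroupOf N)).map (C.subgroupOf N).subtype).map
          N.subtype = D := by
        rw [subgroupOf_map_subtype, Subgroup.map_inf _ _ _ N.subtype_injective,
          map_subgroupOf_eq_of_le (inf_le_right : T ≤ N), map_subgroupOf_eq_of_le hCN]
      intro x hx
      have hx' : (⟨x, hx⟩ : N) ∈ (⊤ : Subgroup N) := mem_top _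
      rw [← htop] at hx'
      obtain ⟨a, ha, c, hc, e⟩ := mem_sup_of_normal_right.1 hx'
      rw [show x = (a : G) * (c : G) from (congrArg Subtype.val e).symm]
      refine mul_mem (mem_sup_right ⟨a.2, ?_⟩) (mem_sup_left hc)
      refine mem_normalizer_of_conj fun d hd => ?_
      rw [← hDeq] at hd ⊢
      obtain ⟨d', hd', rfl⟩ := hd
      exact mem_map_of_mem N.subtype ((mem_normalizer_iff.1 ha d').1 hd')
    have hq' : AutDvd q H' := by
      have h1 : q ∣ C.relIndex Y := by
        have h2 : C.relIndex N = C.relIndex Y := by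
          have hY : Y ≤ N := inf_le_left
          show (C.subgroupOf N).index = _
          rw [← relIndex_subgroupOf hY]
          have htop : C.subgroupOf N ⊔ Y.subgroupOf N = ⊤ := by
            refine eq_top_iff.2 fun x _ => ?_
            have hx : (x : G) ∈ (C.subgroupOf N ⊔ Y.subgroupOf N).map N.subtype := by
              rw [Subgroup.map_sup, map_subgroupOf_eq_of_le hCN, map_subgroupOf_eq_of_le hY]
              exact hYC x.2
            obtain ⟨x', hx', e⟩ := hx
            rwa [← Subtype.ext e]
          rw [← relIndex_top_right, ← htop, sup_comm, relIndex_sup_right]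
        rw [← h2]; exact hHq
      have h3 : centralizer (H' : Set G) ≤ C := centralizer_le (SetLike.coe_subset_coe.2 le_sup_left)
      have h4 : q ∣ (centralizer (H' : Set G)).relIndex Y :=
        h1.trans (relIndex_dvd_of_le_left Y h3)
      refine h4.trans ?_
      rw [← relIndex_subgroupOf hYH']
      exact relIndex_dvd_index_of_normal _ _
    have hle := hbestC H' (hH'T.trans inf_le_left) hq'
      (Nat.le_of_dvd Nat.card_pos (card_dvd_of_le (le_inf inf_le_left hTH')))
    have heq : H = H' := eq_of_le_of_card_ge le_sup_left hle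
    exact le_sup_right.trans heq.ge
  -- `N` is `p`-solvable
  have hNs : Cfsg.IsPSolvable p N := by
    set C' := C.subgroupOf N
    have hTC : IsPGroup p ((T.subgroupOf N).subgroupOf C') :=
      (hTp.comap_subtype (K := N)).comap_subtype
    have hi : ¬ p ∣ ((T.subgroupOf N).subgroupOf C').index :=
      not_dvd_relIndex ((hTp.comap_subtype (K := N)).toSylow hTi) C'
    have hcomp : Cfsg.HasNormalPComplement p C' := by
      refine TransferBasic.hasNormalPComplement_of_le_centralizer (hTC.toSylow hi) fun g _ => ?_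
      refine mem_centralizer_iff.2 fun z hz => Subtype.ext (Subtype.ext ?_)
      exact mem_centralizer_iff.1 (g.2 : ((g : N) : G) ∈ C) _ (hDH ⟨hz, z.2⟩)
    rw [PResidual.hasNormalPComplement_iff] at hcomp
    set U := (Cfsg.pResidual p C').map C'.subtype
    haveI : U.Normal := ConjAct.normal_of_characteristic_of_normal
    have hUC : U ≤ C' := map_subtype_le _
    refine PairCyclic.isPSolvable_of_coprime_kernel (QuotientGroup.mk' U)
      (QuotientGroup.mk'_surjective U) ?_ ?_
    · rw [QuotientGroup.ker_mk', card_map_of_injective C'.subtype_injective]; exact hcomp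
    · refine Fusion.isPSolvable_of_pKernel
        (QuotientGroup.map U C' (MonoidHom.id _) (by rwa [comap_id])) ?_ ?_ (hsol H (P.2.to_le hHP))
      · intro y
        obtain ⟨x, rfl⟩ := QuotientGroup.mk'_surjective C' y
        exact ⟨QuotientGroup.mk' U x, rfl⟩
      · rw [QuotientGroup.ker_map, comap_id]
        obtain ⟨j, hj⟩ := PResidual.exists_index_pResidual (G := C') (p := p)
        refine IsPGroup.of_card (n := j) ?_
        have hk : ((QuotientGroup.mk' U).comp C'.subtype).ker = Cfsg.pResidual p C' := by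
          rw [← MonoidHom.comap_ker, QuotientGroup.ker_mk']
          exact comap_map_eq_self_of_injective C'.subtype_injective _
        have hc := index_ker ((QuotientGroup.mk' U).comp C'.subtype)
        rw [hk, hj, MonoidHom.range_comp, range_subtype] at hc
        exact hc.symm
  obtain ⟨Γ, hTΓ, hΓq, hΓr⟩ :=
    exists_pair (p := p) (q := q) (Nat.card N) N le_rfl hNs (T.subgroupOf N) hTp.comap_subtype hTi
  set TT := (hTp.comap_subtype (K := N)).comap_subtype (K := Γ)
  have hTΓi : ¬ p ∣ ((T.subgroupOf N).subgroupOf Γ).index :=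
    fun h => hTi (h.trans (relIndex_dvd_index_of_le hTΓ))
  set S : Sylow p Γ := TT.toSylow hTΓi
  have h3 : p ≠ 2 ∨ ¬ 3 ∣ Nat.card Γ := by
    by_cases h2 : p = 2
    · refine Or.inr fun hd => ?_
      rcases hΓr 3 Nat.prime_three hd with h | h
      · omega
      · exact (h23.resolve_left (not_not.2 h2)) h.symm
    · exact Or.inl h2
  have hnc : ¬ Cfsg.HasNormalPComplement p Γ := by
    intro h
    obtain ⟨P0, U, hU, hUP⟩ := h
    haveI := hU
    obtain ⟨hc, k, hk⟩ := PResidual.card_coprime_of_isComplement' P0 hUP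
    -- `U` centralizes `H`
    have hUC : U ≤ (C.subgroupOf N).subgroupOf Γ := by
      intro u hu
      show ((u : N) : G) ∈ C
      refine mem_centralizer_iff.2 fun h hh => ?_
      set hΓ : Γ := ⟨⟨h, le_normalizer hh⟩, hTΓ (hHT hh)⟩
      have h1 : ⁅hΓ, u⁆ ∈ U := mul_mem (hU.conj_mem u hu hΓ) (inv_mem hu)
      have h2 : ⁅hΓ, u⁆ ∈ (H.subgroupOf N).subgroupOf Γ := by
        show h * ((u : N) : G) * h⁻¹ * ((u : N) : G)⁻¹ ∈ H
        rw [mul_assoc, mul_assoc, ← mul_assoc ((u : N) : G)]
        exact mul_mem hh ((mem_normalizer_iff.1 (u : N).2 _).1 (inv_mem hh))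
      obtain ⟨i, hi⟩ := (((P.2.to_le hHP).comap_subtype (K := N)).comap_subtype (K := Γ)).exists_card_eq
      have h3 : ⁅hΓ, u⁆ = 1 :=
        mem_bot.1 (inf_eq_bot_of_coprime (hi ▸ (hc.symm.pow_left i)) ▸ ⟨h2, h1⟩)
      exact congrArg (fun w : Γ => ((w : N) : G)) (commutatorElement_eq_one_iff_mul_comm.1 h3)
    have h4 : C.relIndex N ∣ U.index * Γ.index := by
      show (C.subgroupOf N).index ∣ _
      rw [← index_map_subtype]
      exact index_dvd_of_le (map_le_iff_le_comap.2 hUC)
    have h5 : q ∣ U.index * Γ.index := Dvd.dvd.trans hHq h4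
    rw [hk] at h5
    rcases hqp.dvd_mul.1 h5 with h6 | h6
    · exact hpq ((Nat.prime_dvd_prime_iff_eq hqp hp).1 (hqp.dvd_of_dvd_pow h6)).symm
    · exact hΓq h6
  obtain ⟨K, hKc, y, hyN, hyo, hyC⟩ := exists_char_moved _ Γ le_rfl h3 hnc S
  set F : Γ →* G := N.subtype.comp Γ.subtype
  set K' := K.map F
  have hKT : K' ≤ T := by
    rintro _ ⟨k, hk, rfl⟩
    exact (IsPGroup.toSylow_coe TT hTΓi).le (hKc.1 hk)
  have hNT : (P : Subgroup G) ⊓ normalizer (T : Set G) ≤ normalizer (K' : Set G) := by
    intro g hg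
    refine mem_normalizer_of_conj ?_
    rintro _ ⟨k, hk, rfl⟩
    -- conjugation by `g` as an automorphism of the Sylow subgroup
    let e : ↥(S : Subgroup Γ) ≃* ↥T :=
      MulEquiv.ofBijective ((F.comp (S : Subgroup Γ).subtype).codRestrict T fun x =>
        ((IsPGroup.toSylow_coe TT hTΓi).le x.2 : _))
        ⟨fun a b h => by
            have h' : (((a : Γ) : N) : G) = (((b : Γ) : N) : G) := congrArg (fun w : ↥T => (w : G)) h
            exact Subtype.ext (Subtype.ext (Subtype.ext h')),
          fun t => ⟨⟨⟨⟨t, t.2.2⟩, hTΓ t.2⟩, (IsPGroup.toSylow_coe TT hTΓi).ge t.2⟩, rfl⟩⟩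
    let c : ↥T ≃* ↥T := MulEquiv.ofBijective
      (((MulAut.conj g).toMonoidHom.comp T.subtype).codRestrict T fun t =>
        (mem_normalizer_iff.1 hg.2 _).1 t.2)
      (Finite.injective_iff_bijective.1 fun a b hab =>
        Subtype.ext ((MulAut.conj g).injective (congrArg Subtype.val hab)))
    have h1 := hKc.2 ((e.trans c).trans e.symm) ⟨k, hKc.1 hk⟩ hk
    refine ⟨_, h1, ?_⟩
    show ((e (e.symm (c (e ⟨k, hKc.1 hk⟩))) : T) : G) = _
    rw [MulEquiv.apply_symm_apply]
    rfl
  -- the automizer of `K'`
  have hqK : AutDvd q K' := by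
    have hyN' : F y ∈ normalizer (K' : Set G) := by
      refine mem_normalizer_of_conj ?_
      rintro _ ⟨k, hk, rfl⟩
      exact ⟨y * k * y⁻¹, (mem_normalizer_iff.1 hyN k).1 hk, by simp⟩
    have hyC' : F y ∉ centralizer (K' : Set G) := fun h => hyC (mem_centralizer_iff.2 fun k hk =>
      Subtype.ext (Subtype.ext (mem_centralizer_iff.1 h _ (mem_map_of_mem F hk))))
    set C2 := (centralizer (K' : Set G)).subgroupOf (normalizer (K' : Set G))
    set yb : ↥(normalizer (K' : Set G)) ⧸ C2 := QuotientGroup.mk ⟨F y, hyN'⟩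
    have hyb : yb ≠ 1 := fun h => hyC' ((QuotientGroup.eq_one_iff _).1 h : _)
    have hd : orderOf yb ∣ orderOf y := by
      refine (orderOf_map_dvd (QuotientGroup.mk' C2) ⟨F y, hyN'⟩).trans ?_
      rw [orderOf_mk]
      exact orderOf_map_dvd F y
    obtain ⟨r, hr, hrd⟩ := Nat.exists_prime_and_dvd
      (fun h => hyb (orderOf_eq_one_iff.1 h) : orderOf yb ≠ 1)
    rcases hΓr r hr ((hrd.trans hd).trans (orderOf_dvd_natCard y)) with rfl | rfl
    · exact absurd (Nat.eq_one_of_dvd_coprimes hyo (hrd.trans hd) dvd_rfl) hr.ne_one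
    · exact (hrd.trans (orderOf_dvd_natCard yb)).trans (by rw [← index_eq_card]; exact dvd_rfl)
  -- the normalizer condition
  haveI := P.2.isNilpotent
  have hlt : T < (P : Subgroup G) ⊓ normalizer (T : Set G) := by
    refine lt_of_le_of_ne (le_inf inf_le_left le_normalizer) fun h => ?_
    have h1 : normalizer ((T.subgroupOf (P : Subgroup G) : Subgroup ↥(P : Subgroup G)) :
        Set ↥(P : Subgroup G)) ≤ T.subgroupOf (P : Subgroup G) := by
      intro x hx
      refine h.ge ⟨x.2, mem_normalizer_of_conj fun t ht => ?_⟩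
      exact (mem_normalizer_iff.1 hx ⟨t, ht.1⟩).1 ht
    have h2 : T.subgroupOf (P : Subgroup G) = ⊤ := by
      by_contra hne
      exact (lt_of_lt_of_le (normalizerCondition_of_isNilpotent _ (lt_top_iff_ne_top.2 hne)) h1).false
    exact hTP ((subgroupOf_eq_top.1 h2).trans inf_le_right)
  have hfin := hbestW K' (hKT.trans inf_le_left) hqK
  have hle : Nat.card ↥((P : Subgroup G) ⊓ normalizer (T : Set G)) ≤ W K' :=
    Nat.le_of_dvd Nat.card_pos (card_dvd_of_le (le_inf inf_le_left hNT))
  exact hlt.ne (eq_of_le_of_card_ge hlt.le (hle.trans hfin))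

end

end CfsgLib.AutDiv
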